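import Groth.Agent.Lib.ModFlat16.Proj
import Mathlib.Algebra.Category.ModuleCat.Sheaf.Quasicoherent
import Mathlib.Algebra.Category.ModuleCat.Sheaf.LocallyFree

/-! Tensor products of free and of presented modules on a ringed site. -/

set_option autoImplicit false
set_option linter.style.haveILetI false
set_option linter.unusedSectionVars false
set_option backward.isDefEq.respectTransparency false
set_option backward.isDefEq.respectTransparency.types false

universe u

open CategoryTheory CategoryTheory.Limits Opposite

noncomputable section

namespace Groth.Agent.TensPerm16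

open Groth.Agent.KFlat.Site Groth.Agent.ModFlat16

variable {C : Type u} [SmallCategory C] {J : GrothendieckTopology C} {O : Sheaf J CommRingCat.{u}}
  (M N : ModSite.Mod O)

/-- Free modules. -/
abbrev Free (O : Sheaf J CommRingCat.{u}) (I : Type u) : ModSite.Mod O :=
  SheafOfModules.free (R := ModSite.ringSh O) I

instance preservesColimitsOfShape_left (I : Type u) :
    PreservesColimitsOfShape (Discrete I) ((TS O).flip.obj N) :=
  preservesColimitsOfShape_flip_obj (O := O) N

instance hasCoproduct_unit (K : Type u) :
    HasCoproduct fun _ : K => SheafOfModules.unit (ModSite.ringSh O) :=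
  haveI : HasColimitsOfSize.{u, u} (ModSite.Mod O) := inferInstance
  inferInstance

/-- The tensor product of free modules is free. -/
def freeTensorFree (I K : Type u) : ((TS O).obj (Free O I)).obj (Free O K) ≅ Free O (Σ _ : I, K) :=
  PreservesCoproduct.iso ((TS O).flip.obj (Free O K)) (fun _ : I => SheafOfModules.unit (ModSite.ringSh O)) ≪≫
    Sigma.mapIso (fun _ : I => (unitTensorIso O).app (Free O K)) ≪≫
    sigmaSigmaIso (fun _ : I => K) (fun _ _ => SheafOfModules.unit (ModSite.ringSh O))

theorem preservesFiniteColimits_tensorObj : PreservesFiniteColimits ((TS O).obj M) :=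
  PreservesColimitsOfSize.preservesFiniteColimits _

theorem additive_tensorObj : ((TS O).obj M).Additive :=
  haveI := preservesFiniteColimits_tensorObj M
  haveI := preservesBinaryBiproducts_of_preservesBinaryCoproducts ((TS O).obj M)
  Functor.additive_of_preservesBinaryBiproducts _

theorem preservesFiniteColimits_tensorFlip : PreservesFiniteColimits ((TS O).flip.obj M) :=
  PreservesColimitsOfSize.preservesFiniteColimits _

theorem additive_tensorFlip : ((TS O).flip.obj M).Additive :=
  haveI := preservesFiniteColimits_tensorFlip M
  haveI := preservesBinaryBiproducts_of_preservesBinaryCoproducts ((TS O).flip.obj M)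
  Functor.additive_of_preservesBinaryBiproducts _

variable {M N}

instance epi_map_obj {A B : ModSite.Mod O} (f : A ⟶ B) [Epi f] (P : ModSite.Mod O) :
    Epi (((TS O).map f).app P) :=
  haveI := preservesFiniteColimits_tensorFlip P
  show Epi (((TS O).flip.obj P).map f) from inferInstance

instance epi_obj_map {A B : ModSite.Mod O} (f : A ⟶ B) [Epi f] (P : ModSite.Mod O) :
    Epi (((TS O).obj P).map f) :=
  haveI := preservesFiniteColimits_tensorObj P
  inferInstance

/-- Generators of a tensor product. -/
def genTensor (G : M.GeneratingSections) (G' : N.GeneratingSections) :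
    (((TS O).obj M).obj N).GeneratingSections :=
  (SheafOfModules.free.generatingSections (R := ModSite.ringSh O) (Σ _ : G.I, G'.I)).ofEpi
    ((freeTensorFree G.I G'.I).inv ≫ ((TS O).map G.π).app _ ≫ ((TS O).obj M).map G'.π)

theorem genTensor_π (G : M.GeneratingSections) (G' : N.GeneratingSections) :
    (genTensor G G').π =
      (freeTensorFree G.I G'.I).inv ≫ ((TS O).map G.π).app _ ≫ ((TS O).obj M).map G'.π := by
  unfold genTensor
  rw [SheafOfModules.GeneratingSections.ofEpi_π]
  have h : (SheafOfModules.free.generatingSections (R := ModSite.ringSh O) (Σ _ : G.I, G'.I)).π = 𝟙 _ :=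
    Equiv.symm_apply_apply _ _
  rw [h, Category.id_comp]

instance isIso_genTensor (G : M.GeneratingSections) (G' : N.GeneratingSections) [IsIso G.π] [IsIso G'.π] :
    IsIso (genTensor G G').π := by
  rw [genTensor_π]
  haveI : IsIso (((TS O).map G.π).app (SheafOfModules.free (R := ModSite.ringSh O) G'.I)) := inferInstance
  infer_instance

theorem isFiniteType_genTensor (G : M.GeneratingSections) (G' : N.GeneratingSections) [G.IsFiniteType]
    [G'.IsFiniteType] : (genTensor G G').IsFiniteType :=
  ⟨inferInstanceAs (Finite (Σ _ : G.I, G'.I))⟩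

section Pres

variable (P : M.Presentation) (P' : N.Presentation)

/-- The relation map of a presentation. -/
abbrev relHom (P : M.Presentation) : Free O P.relations.I ⟶ Free O P.generators.I :=
  P.relations.π ≫ kernel.ι P.generators.π

/-- Relations of a tensor product of presented modules. -/
def relTensor : Free O ((Σ _ : P.relations.I, P'.generators.I) ⊕ (Σ _ : P.generators.I, P'.relations.I)) ⟶
    ((TS O).obj (Free O P.generators.I)).obj (Free O P'.generators.I) :=
  Sigma.desc (Sum.elim
    (fun k => SheafOfModules.ιFree k ≫ (freeTensorFree P.relations.I P'.generators.I).inv ≫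
      ((TS O).map (relHom P)).app _)
    (fun k => SheafOfModules.ιFree k ≫ (freeTensorFree P.generators.I P'.relations.I).inv ≫
      ((TS O).obj (Free O P.generators.I)).map (relHom P')))

theorem relTensor_comp_eq_zero_iff {Z : ModSite.Mod O}
    (k : ((TS O).obj (Free O P.generators.I)).obj (Free O P'.generators.I) ⟶ Z) :
    relTensor P P' ≫ k = 0 ↔ ((TS O).map (relHom P)).app _ ≫ k = 0 ∧
      ((TS O).obj (Free O P.generators.I)).map (relHom P') ≫ k = 0 := by
  constructor
  · intro h
    refine ⟨(cancel_epi (freeTensorFree P.relations.I P'.generators.I).inv).1 ?_,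
      (cancel_epi (freeTensorFree P.generators.I P'.relations.I).inv).1 ?_⟩
    · refine Sigma.hom_ext _ _ fun b => ?_
      have h1 := congrArg (Sigma.ι _ (Sum.inl b) ≫ ·) h
      simp only [relTensor, Sigma.ι_desc_assoc, comp_zero, Sum.elim_inl, Category.assoc] at h1
      rw [comp_zero, comp_zero]
      exact h1
    · refine Sigma.hom_ext _ _ fun b => ?_
      have h1 := congrArg (Sigma.ι _ (Sum.inr b) ≫ ·) h
      simp only [relTensor, Sigma.ι_desc_assoc, comp_zero, Sum.elim_inr, Category.assoc] at h1
      rw [comp_zero, comp_zero]
      exact h1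
  · rintro ⟨h1, h2⟩
    refine Sigma.hom_ext _ _ fun b => ?_
    rcases b with b | b
    · simp only [relTensor, Sigma.ι_desc_assoc, comp_zero, Sum.elim_inl, Category.assoc, h1]
    · simp only [relTensor, Sigma.ι_desc_assoc, comp_zero, Sum.elim_inr, Category.assoc, h2]

/-- The projection onto a tensor product. -/
abbrev projTensor : ((TS O).obj (Free O P.generators.I)).obj (Free O P'.generators.I) ⟶ ((TS O).obj M).obj N :=
  ((TS O).map P.generators.π).app _ ≫ ((TS O).obj M).map P'.generators.π

theorem relTensor_proj : relTensor P P' ≫ projTensor P P' = 0 := by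
  haveI := additive_tensorFlip (Free O P'.generators.I)
  haveI := additive_tensorObj M
  refine (relTensor_comp_eq_zero_iff P P' _).2 ⟨?_, ?_⟩
  · have h : ((TS O).flip.obj (Free O P'.generators.I)).map (relHom P ≫ P.generators.π) = 0 := by
      rw [Category.assoc, kernel.condition, comp_zero, Functor.map_zero]
    rw [Functor.map_comp] at h
    exact (Category.assoc _ _ _).symm.trans ((congrArg (· ≫ _) h).trans zero_comp)
  · rw [projTensor, ((TS O).map P.generators.π).naturality_assoc, ← Functor.map_comp, Category.assoc,
      kernel.condition, comp_zero, Functor.map_zero, comp_zero]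

theorem exists_lift_proj {Z : ModSite.Mod O}
    (k : ((TS O).obj (Free O P.generators.I)).obj (Free O P'.generators.I) ⟶ Z) (hk : relTensor P P' ≫ k = 0) :
    ∃ l, projTensor P P' ≫ l = k := by
  obtain ⟨h1, h2⟩ := (relTensor_comp_eq_zero_iff P P' k).1 hk
  haveI := preservesFiniteColimits_tensorObj (Free O P.generators.I)
  haveI := additive_tensorObj (Free O P.generators.I)
  have hc := CokernelCofork.mapIsColimit _ P'.isColimit ((TS O).obj (Free O P.generators.I))
  obtain ⟨l₁, hl₁⟩ := CokernelCofork.IsColimit.desc' hc k h2
  replace hl₁ : ((TS O).obj (Free O P.generators.I)).map P'.generators.π ≫ l₁ = k := hl₁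
  haveI := preservesFiniteColimits_tensorFlip N
  haveI := additive_tensorFlip N
  have hc' := CokernelCofork.mapIsColimit _ P.isColimit ((TS O).flip.obj N)
  have h3 : ((TS O).flip.obj N).map (relHom P) ≫ l₁ = 0 := by
    refine (cancel_epi (((TS O).obj (Free O P.relations.I)).map P'.generators.π)).1 ?_
    rw [comp_zero]
    refine (Category.assoc _ _ _).symm.trans ?_
    refine Eq.trans (congrArg (· ≫ l₁) (((TS O).map (relHom P)).naturality P'.generators.π)) ?_
    rw [Category.assoc, hl₁, h1]
  obtain ⟨l, hl⟩ := CokernelCofork.IsColimit.desc' hc' l₁ h3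
  replace hl : ((TS O).map P.generators.π).app N ≫ l = l₁ := hl
  refine ⟨l, ?_⟩
  rw [projTensor, ← ((TS O).map P.generators.π).naturality, Category.assoc, hl, hl₁]

/-- The cokernel property. -/
def isColimitTensor : IsColimit (CokernelCofork.ofπ
    ((freeTensorFree P.generators.I P'.generators.I).inv ≫ projTensor P P')
    (show (relTensor P P' ≫ (freeTensorFree P.generators.I P'.generators.I).hom) ≫ _ = 0 by
      rw [Category.assoc, Iso.hom_inv_id_assoc, relTensor_proj])) :=
  CokernelCofork.IsColimit.ofπ' _ _ fun {Z} k hk =>
    have h : ∃ l, projTensor P P' ≫ l = (freeTensorFree P.generators.I P'.generators.I).hom ≫ k :=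
      exists_lift_proj P P' _ (by rw [← Category.assoc]; exact hk)
    ⟨h.choose, by rw [Category.assoc, h.choose_spec, Iso.inv_hom_id_assoc]⟩

/-- The presentation of a tensor product. -/
def presTensor : (((TS O).obj M).obj N).Presentation :=
  SheafOfModules.presentationOfIsCokernelFree _ _ _ (isColimitTensor P P')

theorem isFinite_presTensor [P.IsFinite] [P'.IsFinite] : (presTensor P P').IsFinite where
  isFiniteType_generators := ⟨inferInstanceAs (Finite (Σ _ : P.generators.I, P'.generators.I))⟩
  isFiniteType_relations := ⟨inferInstanceAs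
    (Finite ((Σ _ : P.relations.I, P'.generators.I) ⊕ (Σ _ : P.generators.I, P'.relations.I)))⟩

end Pres

end Groth.Agent.TensPerm16
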