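import Groth.Agent.Lib.TensPerm16.Free
import Groth.Agent.Lib.ModFlat16.RestrTensor
import Groth.Agent.Lib.ModFlat16.OverMap

/-! Local properties of modules are stable under tensor products. -/

set_option autoImplicit false
set_option linter.style.haveILetI false
set_option linter.unusedSectionVars false
set_option backward.isDefEq.respectTransparency false
set_option backward.isDefEq.respectTransparency.types false

universe u

open CategoryTheory CategoryTheory.Limits Opposite

noncomputable section

namespace Groth.Agent.TensPerm16

open Groth.Agent.KFlat.Site Groth.Agent.ModFlat16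

variable {C : Type u} [SmallCategory C] [HasPullbacks C] {J : GrothendieckTopology C}
  {O : Sheaf J CommRingCat.{u}} {M N : ModSite.Mod O}

instance preservesColimits_overRestr {U V : C} (g : V ⟶ U) :
    PreservesColimitsOfSize.{u, u} (overRestr O g) :=
  haveI : (overRestr O g).IsLeftAdjoint :=
    inferInstanceAs (SheafOfModules.overMap.{u} (ModSite.ringSh O) g).IsLeftAdjoint
  (Adjunction.ofIsLeftAdjoint (overRestr O g)).leftAdjoint_preservesColimits

/-- The unit restricts to the unit. -/
def etaR {U V : C} (g : V ⟶ U) : SheafOfModules.unit (ModSite.ringSh (O.over V)) ≅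
    (overRestr O g).obj (SheafOfModules.unit (ModSite.ringSh (O.over U))) :=
  (SheafOfModules.overMapUnitIso (R := ModSite.ringSh O) g).symm

/-- Restricted generators. -/
def genRes {U V : C} (g : V ⟶ U) (G : (M.over U).GeneratingSections) : (M.over V).GeneratingSections :=
  haveI := preservesColimits_overRestr (O := O) g
  (G.map (overRestr O g) (etaR g)).ofEpi ((overRestrIso O g).app M).hom

/-- A restricted presentation. -/
def presRes {U V : C} (g : V ⟶ U) (P : (M.over U).Presentation) : (M.over V).Presentation :=
  haveI := preservesColimits_overRestr (O := O) g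
  (P.map (overRestr O g) (etaR g)).ofIsIso ((overRestrIso O g).app M).hom

theorem isFiniteType_genRes {U V : C} (g : V ⟶ U) (G : (M.over U).GeneratingSections) [G.IsFiniteType] :
    (genRes g G).IsFiniteType :=
  ⟨inferInstanceAs (Finite G.I)⟩

theorem isFinite_presRes {U V : C} (g : V ⟶ U) (P : (M.over U).Presentation) [P.IsFinite] :
    (presRes g P).IsFinite where
  isFiniteType_generators := ⟨inferInstanceAs (Finite P.generators.I)⟩
  isFiniteType_relations := ⟨inferInstanceAs (Finite P.relations.I)⟩

theorem isIso_genRes {U V : C} (g : V ⟶ U) (G : (M.over U).GeneratingSections) [IsIso G.π] :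
    IsIso (genRes g G).π := by
  unfold genRes
  rw [SheafOfModules.GeneratingSections.ofEpi_π]
  infer_instance

/-- Restriction commutes with tensor products. -/
abbrev resTen (V : C) : ((ModSite.tensorBi (O.over V)).obj ((ModSite.restr O V).obj M)).obj
    ((ModSite.restr O V).obj N) ≅ (ModSite.restr O V).obj (((ModSite.tensorBi O).obj M).obj N) :=
  ((restrTensorIso O V M).app N).symm

/-- Objects over a member of each covering. -/
structure Ref {I K : Type u} (X : I → C) (Y : K → C) : Type u where
  fst : I
  snd : K
  obj : C
  toFst : obj ⟶ X fst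
  toSnd : obj ⟶ Y snd

theorem coversTop_ref {I K : Type u} {X : I → C} {Y : K → C} (hX : J.CoversTop X) (hY : J.CoversTop Y) :
    J.CoversTop fun r : Ref X Y => r.obj := by
  intro W
  refine J.superset_covering ?_ (J.intersection_covering (hX W) (hY W))
  rintro V k ⟨⟨i, ⟨a⟩⟩, ⟨j, ⟨b⟩⟩⟩
  exact ⟨⟨i, j, V, a, b⟩, ⟨𝟙 V⟩⟩

/-- Local generators of a tensor product. -/
def lgdTensor (q : SheafOfModules.LocalGeneratorsData.{u} (R := ModSite.ringSh O) M)
    (q' : SheafOfModules.LocalGeneratorsData.{u} (R := ModSite.ringSh O) N) :
    SheafOfModules.LocalGeneratorsData.{u} (R := ModSite.ringSh O) (((ModSite.tensorBi O).obj M).obj N) where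
  I := Ref q.X q'.X
  X r := r.obj
  coversTop := coversTop_ref q.coversTop q'.coversTop
  generators r := (genTensor (O := O.over r.obj) (genRes r.toFst (q.generators r.fst))
    (genRes r.toSnd (q'.generators r.snd))).ofEpi (resTen r.obj).hom

/-- Quasi-coherent data of a tensor product. -/
def qcdTensor (q : SheafOfModules.QuasicoherentData.{u} (R := ModSite.ringSh O) M) (q' : SheafOfModules.QuasicoherentData.{u} (R := ModSite.ringSh O) N) :
    SheafOfModules.QuasicoherentData.{u} (R := ModSite.ringSh O) (((ModSite.tensorBi O).obj M).obj N) where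
  I := Ref q.X q'.X
  X r := r.obj
  coversTop := coversTop_ref q.coversTop q'.coversTop
  presentation r := (presTensor (O := O.over r.obj) (presRes r.toFst (q.presentation r.fst))
    (presRes r.toSnd (q'.presentation r.snd))).ofIsIso (resTen r.obj).hom

variable (M N)

theorem isFiniteType_tensor [hM : SheafOfModules.IsFiniteType (R := ModSite.ringSh O) M]
    [hN : SheafOfModules.IsFiniteType (R := ModSite.ringSh O) N] :
    SheafOfModules.IsFiniteType (R := ModSite.ringSh O) (((ModSite.tensorBi O).obj M).obj N) := by
  obtain ⟨q, hq⟩ := SheafOfModules.IsFiniteType.exists_localGeneratorsData M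
  obtain ⟨q', hq'⟩ := SheafOfModules.IsFiniteType.exists_localGeneratorsData N
  constructor
  refine ⟨lgdTensor (O := O) (M := M) (N := N) q q', ?_⟩
  constructor
  intro r
  haveI := hq.isFiniteType r.fst
  haveI := hq'.isFiniteType r.snd
  haveI := isFiniteType_genRes r.toFst (q.generators r.fst)
  haveI := isFiniteType_genRes r.toSnd (q'.generators r.snd)
  haveI := isFiniteType_genTensor (O := O.over r.obj) (genRes r.toFst (q.generators r.fst))
    (genRes r.toSnd (q'.generators r.snd))
  exact inferInstanceAs (SheafOfModules.GeneratingSections.IsFiniteType ((genTensor (O := O.over r.obj) (genRes r.toFst (q.generators r.fst))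
    (genRes r.toSnd (q'.generators r.snd))).ofEpi (resTen (O := O) (M := M) (N := N) r.obj).hom))

theorem isQuasicoherent_tensor [SheafOfModules.IsQuasicoherent (R := ModSite.ringSh O) M]
    [SheafOfModules.IsQuasicoherent (R := ModSite.ringSh O) N] :
    SheafOfModules.IsQuasicoherent (R := ModSite.ringSh O) (((ModSite.tensorBi O).obj M).obj N) := by
  obtain ⟨q⟩ := SheafOfModules.IsQuasicoherent.nonempty_quasicoherentData (M := M)
  obtain ⟨q'⟩ := SheafOfModules.IsQuasicoherent.nonempty_quasicoherentData (M := N)
  constructor
  exact ⟨qcdTensor (O := O) (M := M) (N := N) q q'⟩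

theorem isFinitePresentation_tensor [SheafOfModules.IsFinitePresentation (R := ModSite.ringSh O) M]
    [SheafOfModules.IsFinitePresentation (R := ModSite.ringSh O) N] :
    SheafOfModules.IsFinitePresentation (R := ModSite.ringSh O) (((ModSite.tensorBi O).obj M).obj N) := by
  obtain ⟨q, hq⟩ := SheafOfModules.IsFinitePresentation.exists_quasicoherentData (M := M)
  obtain ⟨q', hq'⟩ := SheafOfModules.IsFinitePresentation.exists_quasicoherentData (M := N)
  constructor
  refine ⟨qcdTensor (O := O) (M := M) (N := N) q q', ?_⟩
  constructor
  intro r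
  haveI := hq.isFinite_presentation r.fst
  haveI := hq'.isFinite_presentation r.snd
  haveI := isFinite_presRes r.toFst (q.presentation r.fst)
  haveI := isFinite_presRes r.toSnd (q'.presentation r.snd)
  haveI := isFinite_presTensor (O := O.over r.obj) (presRes r.toFst (q.presentation r.fst))
    (presRes r.toSnd (q'.presentation r.snd))
  exact inferInstanceAs (SheafOfModules.Presentation.IsFinite ((presTensor (O := O.over r.obj) (presRes r.toFst (q.presentation r.fst))
    (presRes r.toSnd (q'.presentation r.snd))).ofIsIso (resTen (O := O) (M := M) (N := N) r.obj).hom))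

theorem isLocallyFree_tensor [SheafOfModules.IsLocallyFree (R := ModSite.ringSh O) M]
    [SheafOfModules.IsLocallyFree (R := ModSite.ringSh O) N] :
    SheafOfModules.IsLocallyFree (R := ModSite.ringSh O) (((ModSite.tensorBi O).obj M).obj N) := by
  obtain ⟨q, hq⟩ := SheafOfModules.IsLocallyFree.exists_isLocallyFreeData (M := M)
  obtain ⟨q', hq'⟩ := SheafOfModules.IsLocallyFree.exists_isLocallyFreeData (M := N)
  constructor
  refine ⟨lgdTensor (O := O) (M := M) (N := N) q q', ?_⟩
  constructor
  intro r
  haveI := hq.isIso r.fst
  haveI := hq'.isIso r.snd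
  haveI := isIso_genRes r.toFst (q.generators r.fst)
  haveI := isIso_genRes r.toSnd (q'.generators r.snd)
  show IsIso (SheafOfModules.GeneratingSections.π ((genTensor (O := O.over r.obj) (genRes r.toFst (q.generators r.fst))
    (genRes r.toSnd (q'.generators r.snd))).ofEpi (resTen (O := O) (M := M) (N := N) r.obj).hom))
  rw [SheafOfModules.GeneratingSections.ofEpi_π]
  infer_instance

end Groth.Agent.TensPerm16
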